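import Cfsg.Agent.OD.Pre
import Cfsg.Agent.H6.Top2
import Cfsg.Agent.H6.C1A.D0
set_option autoImplicit false
set_option maxRecDepth 100000
set_option Elab.async false
set_option linter.all false
namespace CfH6.C1A
open CfH6 MulAction
noncomputable def n0_0 : Net := mkNet (nat_lit 114688) [(nat_lit 57344, k0), (nat_lit 28672, k1), (nat_lit 14336, k2), (nat_lit 7168, k3), (nat_lit 3584, k4), (nat_lit 1792, k5), (nat_lit 896, k6), (nat_lit 448, k7), (nat_lit 224, k8), (nat_lit 112, k9), (nat_lit 56, k10), (nat_lit 28, k11), (nat_lit 14, k12), (nat_lit 7, k13)] [(k14, nat_lit 1), (k15, nat_lit 1), (k16, nat_lit 1), (k17, nat_lit 1), (k18, nat_lit 1), (k19, nat_lit 1), (k20, nat_lit 1)]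
noncomputable def n0_1 : Net := mkNet (nat_lit 114688) [(nat_lit 57344, k21), (nat_lit 28672, k22), (nat_lit 14336, k23), (nat_lit 7168, k24), (nat_lit 3584, k25), (nat_lit 1792, k26), (nat_lit 896, k27), (nat_lit 448, k28), (nat_lit 224, k29), (nat_lit 112, k30), (nat_lit 56, k31), (nat_lit 28, k32), (nat_lit 14, k33), (nat_lit 7, k34)] [(k35, nat_lit 1), (k36, nat_lit 1), (k37, nat_lit 1), (k38, nat_lit 1), (k39, nat_lit 1), (k40, nat_lit 1), (k41, nat_lit 1)]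
noncomputable def n0_2 : Net := mkNet (nat_lit 114688) [(nat_lit 57344, k42), (nat_lit 28672, k43), (nat_lit 14336, k44), (nat_lit 7168, k45), (nat_lit 3584, k46), (nat_lit 1792, k47), (nat_lit 896, k48), (nat_lit 448, k49), (nat_lit 224, k50), (nat_lit 112, k51), (nat_lit 56, k52), (nat_lit 28, k53), (nat_lit 14, k54), (nat_lit 7, k55)] [(k56, nat_lit 1), (k57, nat_lit 1), (k58, nat_lit 1), (k59, nat_lit 1), (k60, nat_lit 1), (k61, nat_lit 1), (k62, nat_lit 1)]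
noncomputable def n0_3 : Net := mkNet (nat_lit 114688) [(nat_lit 57344, k63), (nat_lit 28672, k64), (nat_lit 14336, k65), (nat_lit 7168, k66), (nat_lit 3584, k67), (nat_lit 1792, k68), (nat_lit 896, k69), (nat_lit 448, k70), (nat_lit 224, k71), (nat_lit 112, k72), (nat_lit 56, k73), (nat_lit 28, k74), (nat_lit 14, k75), (nat_lit 7, k76)] [(k77, nat_lit 1), (k78, nat_lit 1), (k79, nat_lit 1), (k80, nat_lit 1), (k81, nat_lit 1), (k82, nat_lit 1), (k83, nat_lit 1)]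
noncomputable def n0_4 : Net := mkNet (nat_lit 114688) [(nat_lit 57344, k84), (nat_lit 28672, k85), (nat_lit 14336, k86), (nat_lit 7168, k87), (nat_lit 3584, k88), (nat_lit 1792, k89), (nat_lit 896, k90), (nat_lit 448, k91), (nat_lit 224, k92), (nat_lit 112, k93), (nat_lit 56, k94), (nat_lit 28, k95), (nat_lit 14, k96), (nat_lit 7, k97)] [(k98, nat_lit 1), (k99, nat_lit 1), (k100, nat_lit 1), (k101, nat_lit 1), (k102, nat_lit 1), (k103, nat_lit 1), (k104, nat_lit 1)]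
noncomputable def n0_5 : Net := mkNet (nat_lit 114688) [(nat_lit 57344, k105), (nat_lit 28672, k106), (nat_lit 14336, k107), (nat_lit 7168, k108), (nat_lit 3584, k109), (nat_lit 1792, k110), (nat_lit 896, k111), (nat_lit 448, k112), (nat_lit 224, k113), (nat_lit 112, k114), (nat_lit 56, k115), (nat_lit 28, k116), (nat_lit 14, k117), (nat_lit 7, k118)] [(k119, nat_lit 1), (k120, nat_lit 1), (k121, nat_lit 1), (k122, nat_lit 1), (k123, nat_lit 1), (k124, nat_lit 1), (k125, nat_lit 1)]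
noncomputable def n0_6 : Net := mkNet (nat_lit 114688) [(nat_lit 57344, k126), (nat_lit 28672, k127), (nat_lit 14336, k128), (nat_lit 7168, k129), (nat_lit 3584, k130), (nat_lit 1792, k131), (nat_lit 896, k132), (nat_lit 448, k133), (nat_lit 224, k134), (nat_lit 112, k135), (nat_lit 56, k136), (nat_lit 28, k137), (nat_lit 14, k138), (nat_lit 7, k139)] [(k140, nat_lit 1), (k141, nat_lit 1), (k142, nat_lit 1), (k143, nat_lit 1), (k144, nat_lit 1), (k145, nat_lit 1), (k146, nat_lit 1)]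
noncomputable def n0_7 : Net := mkNet (nat_lit 114688) [(nat_lit 57344, k147), (nat_lit 28672, k148), (nat_lit 14336, k149), (nat_lit 7168, k150), (nat_lit 3584, k151), (nat_lit 1792, k152), (nat_lit 896, k153), (nat_lit 448, k154), (nat_lit 224, k155), (nat_lit 112, k156), (nat_lit 56, k157), (nat_lit 28, k158), (nat_lit 14, k159), (nat_lit 7, k160)] [(k161, nat_lit 1), (k162, nat_lit 1), (k163, nat_lit 1), (k164, nat_lit 1), (k165, nat_lit 1), (k166, nat_lit 1), (k167, nat_lit 1)]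
noncomputable def n0_8 : Net := mkNet (nat_lit 114688) [(nat_lit 57344, k168), (nat_lit 28672, k169), (nat_lit 14336, k170), (nat_lit 7168, k171), (nat_lit 3584, k172), (nat_lit 1792, k173), (nat_lit 896, k174), (nat_lit 448, k175), (nat_lit 224, k176), (nat_lit 112, k177), (nat_lit 56, k178), (nat_lit 28, k179), (nat_lit 14, k180), (nat_lit 7, k181)] [(k182, nat_lit 1), (k183, nat_lit 1), (k184, nat_lit 1), (k185, nat_lit 1), (k186, nat_lit 1), (k187, nat_lit 1), (k188, nat_lit 1)]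
noncomputable def n2_0 : Net := mkNet (nat_lit 384) [(nat_lit 192, k189), (nat_lit 96, k190), (nat_lit 48, k191), (nat_lit 24, k192), (nat_lit 12, k193), (nat_lit 6, k194), (nat_lit 3, k195)] [(k196, nat_lit 1), (k197, nat_lit 1), (k198, nat_lit 1)]
noncomputable def n2_1 : Net := mkNet (nat_lit 384) [(nat_lit 192, k199), (nat_lit 96, k200), (nat_lit 48, k201), (nat_lit 24, k202), (nat_lit 12, k203), (nat_lit 6, k204), (nat_lit 3, k205)] [(k206, nat_lit 1), (k207, nat_lit 1), (k208, nat_lit 1)]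
noncomputable def n3_0 : Net := mkNet (nat_lit 160) [(nat_lit 80, k209), (nat_lit 40, k210), (nat_lit 20, k211), (nat_lit 10, k212), (nat_lit 5, k213)] [(k214, nat_lit 1), (k215, nat_lit 1), (k216, nat_lit 1), (k217, nat_lit 1), (k218, nat_lit 1)]
noncomputable def n3_1 : Net := mkNet (nat_lit 160) [(nat_lit 80, k219), (nat_lit 40, k220), (nat_lit 20, k221), (nat_lit 10, k222), (nat_lit 5, k223)] [(k224, nat_lit 1), (k225, nat_lit 1), (k226, nat_lit 1), (k227, nat_lit 1), (k228, nat_lit 1)]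
noncomputable def n4_0 : Net := mkNet (nat_lit 48) [(nat_lit 24, (nat_lit 0x71eca071eca0)), (nat_lit 12, (nat_lit 0x41e1081d81c8)), (nat_lit 6, (nat_lit 0x92009834c000)), (nat_lit 3, (nat_lit 0x592a98b04000))] [((nat_lit 0x208049040000), nat_lit 1), ((nat_lit 0x482492090010), nat_lit 1), ((nat_lit 0x200009000000), nat_lit 1)]
noncomputable def n4_1 : Net := mkNet (nat_lit 48) [(nat_lit 24, (nat_lit 0xd2e9c0d2e900)), (nat_lit 12, (nat_lit 0x11e810300300)), (nat_lit 6, (nat_lit 0xd24796c30000)), (nat_lit 3, (nat_lit 0x910020800200))] [((nat_lit 0x8201000008), nat_lit 1), ((nat_lit 0x410480400010), nat_lit 1), ((nat_lit 0x8000000000), nat_lit 1)]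
noncomputable def n5_0 : Net := mkNet (nat_lit 40) [(nat_lit 20, (nat_lit 0x3bbd838a98)), (nat_lit 10, (nat_lit 0x719e02e8aa)), (nat_lit 5, (nat_lit 0x32928c008))] [((nat_lit 0x94a021404), nat_lit 1), ((nat_lit 0x1090240942), nat_lit 1), ((nat_lit 0x948121484), nat_lit 1), ((nat_lit 0x84000140), nat_lit 1)]
noncomputable def n5_1 : Net := mkNet (nat_lit 40) [(nat_lit 20, (nat_lit 0xbd380bd38)), (nat_lit 10, (nat_lit 0x2008062110)), (nat_lit 5, (nat_lit 0x84d6b18))] [((nat_lit 0x940120020), nat_lit 1), ((nat_lit 0x1084a40900), nat_lit 1), ((nat_lit 0x94a401480), nat_lit 1), ((nat_lit 0x84a00800), nat_lit 1), ((nat_lit 0x100000), nat_lit 1)]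
noncomputable def n5_2 : Net := mkNet (nat_lit 40) [(nat_lit 20, (nat_lit 0x12ac02b4c)), (nat_lit 10, (nat_lit 0x308c0d2b9e)), (nat_lit 5, (nat_lit 0x300426c2d4))] [((nat_lit 0x10a120424), nat_lit 1), ((nat_lit 0x84a52940), nat_lit 1), ((nat_lit 0x1084290a0), nat_lit 1), ((nat_lit 0xa12940), nat_lit 1), ((nat_lit 0x100420), nat_lit 1)]
noncomputable def n6_0 : Net := mkNet (nat_lit 20) [(nat_lit 10, (nat_lit 0x72128)), (nat_lit 5, (nat_lit 0x30908))] [((nat_lit 0x20020), nat_lit 1), ((nat_lit 0x12840), nat_lit 1), ((nat_lit 0x9480), nat_lit 1), ((nat_lit 0x2800), nat_lit 1), ((nat_lit 0x400), nat_lit 1)]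
noncomputable def n6_1 : Net := mkNet (nat_lit 20) [(nat_lit 10, (nat_lit 0x791e4)), (nat_lit 5, (nat_lit 0x6b0c6))] [((nat_lit 0x20020), nat_lit 1), ((nat_lit 0x12842), nat_lit 1), ((nat_lit 0x20020), nat_lit 1)]
noncomputable def n7_0 : Net := mkNet (nat_lit 10) [(nat_lit 5, (nat_lit 0))] [((nat_lit 0x40), nat_lit 1), ((nat_lit 0x80), nat_lit 1)]
noncomputable def nets0 : List Net := [n0_0, n0_1, n0_2, n0_3, n0_4, n0_5, n0_6, n0_7, n0_8]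
noncomputable def nets1 : List Net := [n0_0, n0_1, n0_2, n0_3, n0_4, n0_5, n0_6, n0_7]
def ws1 : List (List ℕ) := [[0],
  [1],
  [2],
  [3],
  [4],
  [5],
  [6],
  [7]]
noncomputable def nets2 : List Net := [n2_0, n2_1]
def ws2 : List (List ℕ) := [[0, 6, 7, 3, 2, 6, 2, 3, 7, 0],
  [3, 6, 5, 4, 0, 1]]
noncomputable def nets3 : List Net := [n3_0, n3_1]
def ws3 : List (List ℕ) := [[1, 1, 0, 1, 0, 1, 1, 0, 1, 0, 1],
  [1, 1, 1, 1, 1, 0, 1, 1, 1]]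
noncomputable def nets4 : List Net := [n4_0, n4_1]
def ws4 : List (List ℕ) := [[1, 0, 0, 1, 0, 0, 0, 0, 0, 0, 0],
  [0, 1, 0, 0, 0, 0, 1, 1, 0, 1]]
noncomputable def nets5 : List Net := [n5_0, n5_1, n5_2]
def ws5 : List (List ℕ) := [[0, 0, 1, 1, 0, 1, 1, 0, 1, 1],
  [0, 0, 0, 1, 0, 0, 0, 1],
  [1, 0, 1, 1, 0]]
noncomputable def nets6 : List Net := [n6_0, n6_1]
def ws6 : List (List ℕ) := [[1, 0, 0, 1, 2],
  [1, 2, 2, 1]]
noncomputable def nets7 : List Net := [n7_0]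
def ws7 : List (List ℕ) := [[0, 1, 0, 1, 1, 0, 0, 1]]
def sig : List (List ℕ) := [[0],
  [1],
  [2],
  [3],
  [4],
  [5],
  [6],
  [7],
  [8]]
def eqs0 : List (List ℕ × List ℕ) := [([0, 0], []),
  ([1, 1], []),
  ([2, 2], []),
  ([3, 3], []),
  ([4, 4], []),
  ([5, 5], []),
  ([6, 6], []),
  ([7, 7], []),
  ([8, 8], []),
  ([0, 1], [1, 0]),
  ([0, 2, 0], [2, 0, 2]),
  ([0, 3], [3, 0]),
  ([0, 4], [4, 0]),
  ([0, 5, 0], [5, 0, 5]),
  ([0, 6], [6, 0]),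
  ([0, 7], [7, 0]),
  ([0, 8], [8, 0]),
  ([1, 2, 1], [2, 1, 2]),
  ([1, 3, 1, 3], [3, 1, 3, 1]),
  ([1, 4], [4, 1]),
  ([1, 5, 1, 5], [5, 1, 5, 1]),
  ([1, 6], [6, 1]),
  ([1, 7], [7, 1]),
  ([1, 8], [8, 1]),
  ([2, 3, 2], [3, 2, 3]),
  ([2, 4], [4, 2]),
  ([2, 5], [5, 2]),
  ([2, 6, 2, 6], [6, 2, 6, 2]),
  ([2, 7], [7, 2]),
  ([2, 8, 2], [8, 2, 8]),
  ([3, 4, 3], [4, 3, 4]),
  ([3, 5, 3], [5, 3, 5]),
  ([3, 6], [6, 3]),
  ([3, 7, 3, 7], [7, 3, 7, 3]),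
  ([3, 8, 3], [8, 3, 8]),
  ([4, 5], [5, 4]),
  ([4, 6], [6, 4]),
  ([4, 7], [7, 4]),
  ([4, 8], [8, 4]),
  ([5, 6, 5], [6, 5, 6]),
  ([5, 7], [7, 5]),
  ([5, 8, 5], [8, 5, 8]),
  ([6, 7], [7, 6]),
  ([6, 8], [8, 6]),
  ([7, 8], [8, 7]),
  ([1, 2, 3, 1, 2, 3, 1, 2], [3, 2, 1, 3, 2, 1, 3]),
  ([0, 1, 2, 3, 2, 0, 1, 2, 3, 2, 0, 1, 2], [2, 3, 2, 0, 1, 2, 3, 2, 0, 1, 2, 3]),
  ([0, 1, 2, 0, 1, 3, 1, 2, 0, 1, 3, 1, 2], [3, 1, 2, 0, 1, 3, 1, 2, 0, 1, 3, 1]),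
  ([1, 3, 1, 3, 4], [4, 3, 1, 3]),
  ([0, 1, 2, 0, 3, 1, 3, 2, 5, 0, 1, 3], [3, 1, 3, 2, 5, 0, 3, 1, 2, 3, 2, 1]),
  ([1, 3, 5, 1, 3], [5, 3, 1, 5]),
  ([0, 2, 3, 6, 2, 0, 6, 2, 3], [6, 2, 3, 6, 2, 0, 6, 2, 6]),
  ([1, 2, 1, 5, 1], [5, 1, 5, 2]),
  ([1, 2, 1, 3, 1, 3, 2, 1, 6], [6, 5, 3, 2, 6, 2, 3, 5]),
  ([0, 1, 3, 6, 7], [3, 7, 3, 1, 3]),
  ([2, 5, 6, 2, 5], [6, 2, 5, 6]),
  ([0, 3, 5, 6, 7, 3, 5, 0], [5, 6, 7, 3, 5, 7, 3, 7])]
def eqs1 : List (List ℕ × List ℕ) := [([7, 4, 3, 5, 4, 2, 3, 7, 4, 3, 5, 4, 2, 3, 7, 4, 3, 5], [3, 2, 4, 5, 3, 4, 7, 3, 2, 4, 5, 3, 4, 7, 3, 2, 4]),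
  ([1, 3, 1, 3, 8], [8, 3, 1, 3]),
  ([2, 6, 2, 6, 8], [8, 2, 6, 2]),
  ([2, 3, 2, 4, 3, 2, 8], [8, 2, 3, 4, 8, 3, 2]),
  ([2, 3, 2, 4, 7, 3, 2, 4, 7, 3, 2, 7, 3, 7], [7, 3, 8, 2, 3, 4, 7, 3, 4, 7, 3, 2, 8]),
  ([0, 2, 6, 5, 0, 7, 8, 5, 6, 2, 0], [8, 2, 6, 5, 0, 8, 5, 6, 2, 8])]
def eqs : List (List ℕ × List ℕ) := eqs0 ++ (eqs1)
def lU : List (ℕ × ℕ) := [(0, 18), (20, 14), (40, 2), (48, 81), (160, 162), (384, 98003)]
noncomputable def U : ℕ := ivls lU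
def l1 : List (ℕ × ℕ) := [(384, 46575)]
noncomputable def S1 : ℕ := ivls l1
def w1 : List ℕ := [8]
def l2 : List (ℕ × ℕ) := [(1, 8), (10, 8), (20, 14), (40, 2), (48, 81), (160, 162), (46959, 4325)]
noncomputable def S2 : ℕ := ivls l2
def w2 : List ℕ := [8, 2, 3, 2, 8]
def l3 : List (ℕ × ℕ) := [(9, 1), (51284, 47103)]
noncomputable def S3 : ℕ := ivls l3
def w3 : List ℕ := [8, 5, 3, 2, 8]
noncomputable def J : List (List ℕ × ℕ × ℕ) := [(w1, 384, S1), (w2, 46959, S2), (w3, 9, S3)]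
def lBig : List (ℕ × ℕ) := [(9, 1), (384, 46575), (51284, 47103)]
noncomputable def J3 : List (List ℕ × ℕ × ℕ) := [([0], 9, S3), ([6, 1, 0, 7, 3, 2, 0], 384, S1)]
noncomputable def J2 : List (List ℕ × ℕ × ℕ) := [([7, 0, 8, 3, 4, 6, 0, 8, 2, 0], 9, S3), ([3, 4, 8, 4, 3, 2, 0, 8, 0], 384, S1)]
noncomputable def J1 : List (List ℕ × ℕ × ℕ) := [([0, 6, 4, 3, 0], 9, S3), ([0], 384, S1)]
def ex : List (List ℕ) := [[2, 8, 4, 5, 0, 6, 3, 5, 7, 2, 4, 0, 7, 5]]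
def bs' : List ℕ := [0, 9, 1, 2, 3, 4, 5, 6]
end CfH6.C1A
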