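import Cfsg.Agent.OD.Pre
import Cfsg.Agent.H6.Top2
import Cfsg.Agent.H6.C1A.C
set_option autoImplicit false
set_option maxRecDepth 100000
set_option Elab.async false
set_option linter.all false
namespace CfH6.C1A
open CfH6 MulAction
theorem e0_0 : EqsOk nets0 eqs0 114688 17 0 1 :=
  eqsOk_of _ _ _ _ 0 1 _ (by decide) (by decide +kernel)
theorem e0_1 : EqsOk nets0 eqs0 114688 17 1 2 :=
  eqsOk_of _ _ _ _ 1 1 _ (by decide) (by decide +kernel)
theorem e0_2 : EqsOk nets0 eqs0 114688 17 2 3 :=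
  eqsOk_of _ _ _ _ 2 1 _ (by decide) (by decide +kernel)
theorem e0_3 : EqsOk nets0 eqs0 114688 17 3 4 :=
  eqsOk_of _ _ _ _ 3 1 _ (by decide) (by decide +kernel)
theorem e0_4 : EqsOk nets0 eqs0 114688 17 4 5 :=
  eqsOk_of _ _ _ _ 4 1 _ (by decide) (by decide +kernel)
theorem e0_5 : EqsOk nets0 eqs0 114688 17 5 6 :=
  eqsOk_of _ _ _ _ 5 1 _ (by decide) (by decide +kernel)
theorem e0_6 : EqsOk nets0 eqs0 114688 17 6 7 :=
  eqsOk_of _ _ _ _ 6 1 _ (by decide) (by decide +kernel)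
theorem e0_7 : EqsOk nets0 eqs0 114688 17 7 8 :=
  eqsOk_of _ _ _ _ 7 1 _ (by decide) (by decide +kernel)
theorem e0_8 : EqsOk nets0 eqs0 114688 17 8 9 :=
  eqsOk_of _ _ _ _ 8 1 _ (by decide) (by decide +kernel)
theorem e0_9 : EqsOk nets0 eqs0 114688 17 9 10 :=
  eqsOk_of _ _ _ _ 9 1 _ (by decide) (by decide +kernel)
theorem e0_10 : EqsOk nets0 eqs0 114688 17 10 11 :=
  eqsOk_of _ _ _ _ 10 1 _ (by decide) (by decide +kernel)
theorem e0_11 : EqsOk nets0 eqs0 114688 17 11 12 :=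
  eqsOk_of _ _ _ _ 11 1 _ (by decide) (by decide +kernel)
theorem e0_12 : EqsOk nets0 eqs0 114688 17 12 13 :=
  eqsOk_of _ _ _ _ 12 1 _ (by decide) (by decide +kernel)
theorem e0_13 : EqsOk nets0 eqs0 114688 17 13 14 :=
  eqsOk_of _ _ _ _ 13 1 _ (by decide) (by decide +kernel)
theorem e0_14 : EqsOk nets0 eqs0 114688 17 14 15 :=
  eqsOk_of _ _ _ _ 14 1 _ (by decide) (by decide +kernel)
theorem e0_15 : EqsOk nets0 eqs0 114688 17 15 16 :=
  eqsOk_of _ _ _ _ 15 1 _ (by decide) (by decide +kernel)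
theorem e0_16 : EqsOk nets0 eqs0 114688 17 16 17 :=
  eqsOk_of _ _ _ _ 16 1 _ (by decide) (by decide +kernel)
theorem e1_0 : EqsOk nets0 eqs1 114688 17 0 2 :=
  eqsOk_of _ _ _ _ 0 2 _ (by decide) (by decide +kernel)
theorem e1_2 : EqsOk nets0 eqs1 114688 17 2 4 :=
  eqsOk_of _ _ _ _ 2 2 _ (by decide) (by decide +kernel)
theorem e1_4 : EqsOk nets0 eqs1 114688 17 4 6 :=
  eqsOk_of _ _ _ _ 4 2 _ (by decide) (by decide +kernel)
theorem e1_6 : EqsOk nets0 eqs1 114688 17 6 8 :=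
  eqsOk_of _ _ _ _ 6 2 _ (by decide) (by decide +kernel)
theorem e1_8 : EqsOk nets0 eqs1 114688 17 8 10 :=
  eqsOk_of _ _ _ _ 8 2 _ (by decide) (by decide +kernel)
theorem e1_10 : EqsOk nets0 eqs1 114688 17 10 12 :=
  eqsOk_of _ _ _ _ 10 2 _ (by decide) (by decide +kernel)
theorem e1_12 : EqsOk nets0 eqs1 114688 17 12 14 :=
  eqsOk_of _ _ _ _ 12 2 _ (by decide) (by decide +kernel)
theorem e1_14 : EqsOk nets0 eqs1 114688 17 14 16 :=
  eqsOk_of _ _ _ _ 14 2 _ (by decide) (by decide +kernel)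
theorem e1_16 : EqsOk nets0 eqs1 114688 17 16 17 :=
  eqsOk_of _ _ _ _ 16 1 _ (by decide) (by decide +kernel)
theorem ok0 : okNets 114688 nets0 = true := by decide +kernel
theorem x1_0 : NxOk nets0 ws1 nets1 8 114688 17 114688 0 17 :=
  nxOk_of _ _ _ _ _ _ _ 0 17 _ (by decide) (by decide +kernel)
theorem sx1 : sideNx ws1 nets1 9 114688 17 114688 = true := by decide +kernel
theorem x2_0 : NxOk nets1 ws2 nets2 2 114688 17 384 0 15 :=
  nxOk_of _ _ _ _ _ _ _ 0 15 _ (by decide) (by decide +kernel)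
theorem x2_15 : NxOk nets1 ws2 nets2 2 114688 17 384 15 17 :=
  nxOk_of _ _ _ _ _ _ _ 15 2 _ (by decide) (by decide +kernel)
theorem sx2 : sideNx ws2 nets2 8 114688 17 384 = true := by decide +kernel
theorem x3_0 : NxOk nets2 ws3 nets3 2 384 9 160 0 9 :=
  nxOk_of _ _ _ _ _ _ _ 0 9 _ (by decide) (by decide +kernel)
theorem sx3 : sideNx ws3 nets3 2 384 9 160 = true := by decide +kernel
theorem x4_0 : NxOk nets3 ws4 nets4 2 160 8 48 0 8 :=
  nxOk_of _ _ _ _ _ _ _ 0 8 _ (by decide) (by decide +kernel)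
theorem sx4 : sideNx ws4 nets4 2 160 8 48 = true := by decide +kernel
theorem x5_0 : NxOk nets4 ws5 nets5 3 48 6 40 0 6 :=
  nxOk_of _ _ _ _ _ _ _ 0 6 _ (by decide) (by decide +kernel)
theorem sx5 : sideNx ws5 nets5 2 48 6 40 = true := by decide +kernel
theorem x6_0 : NxOk nets5 ws6 nets6 2 40 6 20 0 6 :=
  nxOk_of _ _ _ _ _ _ _ 0 6 _ (by decide) (by decide +kernel)
theorem sx6 : sideNx ws6 nets6 3 40 6 20 = true := by decide +kernel
theorem x7_0 : NxOk nets6 ws7 nets7 1 20 5 10 0 5 :=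
  nxOk_of _ _ _ _ _ _ _ 0 5 _ (by decide) (by decide +kernel)
theorem sx7 : sideNx ws7 nets7 2 20 5 10 = true := by decide +kernel
theorem oi1_0 : (Nat.blt 0 8 && Nat.beq (orbN nets1 8 32 (Nat.shiftLeft 1 384)) S1) = true := by decide +kernel
theorem ci1 : (Nat.beq (chkInv nets1 8 S1) 0 && S1.testBit 384) = true := by decide +kernel
theorem oi2_0 : (Nat.blt 0 8 && Nat.beq (orbN nets1 8 40 (Nat.shiftLeft 1 46959)) S2) = true := by decide +kernel
theorem ci2 : (Nat.beq (chkInv nets1 8 S2) 0 && S2.testBit 46959) = true := by decide +kernel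
theorem oi3_0 : (Nat.blt 0 8 && Nat.beq (orbN nets1 8 32 (Nat.shiftLeft 1 9)) S3) = true := by decide +kernel
theorem ci3 : (Nat.beq (chkInv nets1 8 S3) 0 && S3.testBit 9) = true := by decide +kernel
theorem cm3 : chkMx 114688 nets0 9 ws1 8 98280 w3 9 J3 lBig = true := by decide +kernel
theorem cm2 : chkMx 114688 nets0 9 ws1 8 98280 w2 46959 J2 lBig = true := by decide +kernel
theorem cm1 : chkMx 114688 nets0 9 ws1 8 98280 w1 384 J1 lBig = true := by decide +kernel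
theorem og7 : Nat.ble 3 (popc 4 (orbN nets7 1 2 (Nat.shiftLeft 1 6))) = true := by decide +kernel
theorem og6 : Nat.ble 12 (popc 5 (orbN nets6 2 6 (Nat.shiftLeft 1 5))) = true := by decide +kernel
theorem og5 : Nat.ble 27 (popc 6 (orbN nets5 3 9 (Nat.shiftLeft 1 4))) = true := by decide +kernel
theorem og4 : Nat.ble 30 (popc 6 (orbN nets4 2 8 (Nat.shiftLeft 1 3))) = true := by decide +kernel
theorem og3 : Nat.ble 112 (popc 8 (orbN nets3 2 16 (Nat.shiftLeft 1 2))) = true := by decide +kernel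
theorem og2 : Nat.ble 275 (popc 9 (orbN nets2 2 26 (Nat.shiftLeft 1 1))) = true := by decide +kernel
theorem pw0 : (allLt 9 (wpow [2, 8, 4, 5, 0, 6, 3, 5, 7, 2, 4, 0, 7, 5] (13 ^ 1)) && bs'.all fun b => Nat.blt b 114688 && Nat.beq (chkMap nets0 (wpow [2, 8, 4, 5, 0, 6, 3, 5, 7, 2, 4, 0, 7, 5] (13 ^ 1)) b b) 0) = true := by decide +kernel
end CfH6.C1A
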